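import Groth.Agent.LocHom.Common
import Groth.Agent.LocHom.Loci
import Groth.Agent.QDom.Pair
import Groth.Agent.QDom.Global
import Groth.Agent.BlowComp.Main
import Groth.Agent.Nagata.PairGen
import Groth.Agent.BlowUp.Basic

/-!
# Admissible blow-ups for localizing immersions
-/

set_option autoImplicit false
set_option maxHeartbeats 800000
set_option backward.isDefEq.respectTransparency false
set_option backward.defeqAttrib.useBackward true
set_option linter.style.haveILetI false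

universe u

open CategoryTheory CategoryTheory.Limits AlgebraicGeometry TopologicalSpace

namespace Groth.Agent.LocBlow

open Groth.Agent LocHom

/-- After a blow-up missing it, an open becomes dense. -/
theorem exists_dense_blowUp {W X : Scheme.{u}} [IsNoetherian X] (j : W ⟶ X) [IsOpenImmersion j] :
    ∃ (𝓘 : X.IdealSheafData) (X' : Scheme.{u}) (c : X' ⟶ X) (u : W ⟶ X'),
      BlowUp.IsBlowUp c 𝓘 ∧ BlowUp.IsFiniteTypeIdeal 𝓘 ∧
      Disjoint (𝓘.support : Set X) (Set.range j) ∧ IsProper c ∧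
      u ≫ c = j ∧ IsOpenImmersion u ∧ IsDominant u ∧
      Set.range u = (fun x => c x) ⁻¹' Set.range j := by
  haveI : IsNoetherian W := LocHom.isNoetherian_of_openImmersion j
  obtain ⟨H, hH, hHs⟩ := QDom.Global.exists_support_eq_compl (V := j.opensRange)
    (NoetherianSpace.isCompact _)
  obtain ⟨X', c, hc⟩ := BlowUp.Glue.exists_isBlowUp X H
  haveI : IsProper c := BlowUpProper.Basic.isProper hc hH
  haveI : QuasiSeparatedSpace X' := quasiSeparatedSpace_of_quasiSeparated c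
  obtain ⟨u, hu, hu1, _, hur, hud⟩ := Nagata.exists_lift j hc (by rw [hHs]; exact disjoint_compl_left)
  haveI := hud hHs
  refine ⟨H, X', c, u, hc, hH, ?_, inferInstance, hu, hu1, inferInstance, hur⟩
  rw [hHs]
  exact disjoint_compl_left

/-- The composite of the blow-up making an open dense and a blow-up missing the lift of the open. -/
theorem exists_comp {W X X' A : Scheme.{u}} [IsNoetherian X] (j : W ⟶ X) {c : X' ⟶ X} {u : W ⟶ X'}
    {𝓘 : X.IdealSheafData} (hc : BlowUp.IsBlowUp c 𝓘) (h𝓘 : BlowUp.IsFiniteTypeIdeal 𝓘)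
    (hd : Disjoint (𝓘.support : Set X) (Set.range j))
    (hur : Set.range u = (fun x => c x) ⁻¹' Set.range j)
    {a : A ⟶ X'} {𝓙 : X'.IdealSheafData} (ha : BlowUp.IsBlowUp a 𝓙) (h𝓙 : BlowUp.IsFiniteTypeIdeal 𝓙)
    (hd' : Disjoint (𝓙.support : Set X') (Set.range u)) :
    ∃ 𝓚 : X.IdealSheafData, BlowUp.IsBlowUp (a ≫ c) 𝓚 ∧ BlowUp.IsFiniteTypeIdeal 𝓚 ∧
      Disjoint (𝓚.support : Set X) (Set.range j) := by
  obtain ⟨𝓚, hK, hKs, hKb⟩ := BlowComp.Main.exists_comp hc h𝓘 h𝓙 ha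
  refine ⟨𝓚, hKb, hK, ?_⟩
  rw [hKs, Set.disjoint_union_left]
  refine ⟨hd, Set.disjoint_left.mpr ?_⟩
  rintro _ ⟨x, hx, rfl⟩ hxj
  exact Set.disjoint_left.mp hd' hx (hur.ge hxj)

/-- Two finite type schemes over `S`, the second proper, sharing an open `W`: after blow-ups
missing `W` the first is a dense open of the second. -/
theorem exists_blowUp_openImmersion {S X₁ X₂ W : Scheme.{u}} [IsNoetherian S] [IsNoetherian X₁]
    [IsNoetherian X₂] (g₁ : X₁ ⟶ S) (g₂ : X₂ ⟶ S) [IsSeparated g₁] [LocallyOfFiniteType g₁] [IsProper g₂]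
    (j₁ : W ⟶ X₁) (j₂ : W ⟶ X₂) [IsOpenImmersion j₁] [IsOpenImmersion j₂]
    (h : j₁ ≫ g₁ = j₂ ≫ g₂) :
    ∃ (A B : Scheme.{u}) (a : A ⟶ X₁) (b : B ⟶ X₂) (o : A ⟶ B) (u : W ⟶ A)
      (𝓛 : X₁.IdealSheafData) (𝓜 : X₂.IdealSheafData),
      BlowUp.IsBlowUp a 𝓛 ∧ BlowUp.IsFiniteTypeIdeal 𝓛 ∧ Disjoint (𝓛.support : Set X₁) (Set.range j₁) ∧
      BlowUp.IsBlowUp b 𝓜 ∧ BlowUp.IsFiniteTypeIdeal 𝓜 ∧ Disjoint (𝓜.support : Set X₂) (Set.range j₂) ∧
      IsProper a ∧ IsProper b ∧ IsOpenImmersion o ∧ IsDominant o ∧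
      o ≫ b ≫ g₂ = a ≫ g₁ ∧ u ≫ a = j₁ ∧ u ≫ o ≫ b = j₂ := by
  haveI : IsNoetherian W := LocHom.isNoetherian_of_openImmersion j₁
  obtain ⟨I₁, X₁', c₁, u₁, hc₁, hI₁, hd₁, _, hu₁, _, _, hur₁⟩ := exists_dense_blowUp j₁
  obtain ⟨I₂, X₂', c₂, u₂, hc₂, hI₂, hd₂, _, hu₂, _, _, hur₂⟩ := exists_dense_blowUp j₂
  haveI : QuasiCompact g₁ := quasiCompact_of_compactSpace _
  obtain ⟨Y, q, _, _, _, A, a, B, b, iA, iB, uA, uB, ⟨L, ha, hL, hLs⟩, ⟨M, hb, hM, hMs⟩,
    _, _, -, hua, hub, huAB, hiA, hiB, _, hdom, hqc⟩ :=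
    QDom.Pair.exists_glue (c₁ ≫ g₁) (c₂ ≫ g₂) u₁ u₂
      (by rw [← Category.assoc, hu₁, ← Category.assoc, hu₂, h])
  haveI : IsProper a := BlowUpProper.Basic.isProper ha hL
  haveI : IsProper b := BlowUpProper.Basic.isProper hb hM
  haveI : IsProper (iB ≫ q) := by rw [hiB]; infer_instance
  haveI : IsProper iB := IsProper.of_comp iB q
  haveI := hdom
  haveI := hqc
  have hd : Dense (Set.range (uA ≫ iA)) := (uA ≫ iA).denseRange
  haveI : IsIso iB := by
    haveI : Epi iB.base := (TopCat.epi_iff_surjective _).mpr fun y => by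
      have h1 : y ∈ closure (Set.range iB) := by
        refine closure_mono ?_ (hd y)
        rintro _ ⟨x, rfl⟩
        exact ⟨uB x, (congr(($huAB) x)).symm⟩
      rwa [iB.isClosedMap.isClosed_range.closure_eq] at h1
    exact IsOpenImmersion.isIso iB
  haveI : IsDominant iA := ⟨hd.mono (by rintro _ ⟨x, rfl⟩; exact ⟨uA x, rfl⟩)⟩
  haveI : IsNoetherian X₁' := LocHom.isNoetherian_of_lft c₁
  haveI : IsNoetherian X₂' := LocHom.isNoetherian_of_lft c₂
  obtain ⟨𝓛, h1, h2, h3⟩ := exists_comp j₁ hc₁ hI₁ hd₁ hur₁ ha hL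
    (by rw [hLs]; exact disjoint_compl_left)
  obtain ⟨𝓜, h4, h5, h6⟩ := exists_comp j₂ hc₂ hI₂ hd₂ hur₂ hb hM
    (by rw [hMs]; exact disjoint_compl_left)
  refine ⟨A, B, a ≫ c₁, b ≫ c₂, iA ≫ inv iB, uA, 𝓛, 𝓜, h1, h2, h3, h4, h5, h6, inferInstance,
    inferInstance, inferInstance, inferInstance, ?_, by rw [← Category.assoc, hua, hu₁], ?_⟩
  · rw [Category.assoc, Category.assoc, ← hiB, IsIso.inv_hom_id_assoc, hiA]
    simp
  · rw [← Category.assoc, ← Category.assoc uA, huAB, Category.assoc, Category.assoc,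
      IsIso.hom_inv_id_assoc, ← Category.assoc, hub, hu₂]

/-- An open immersion with dense image between schemes proper over a base is an isomorphism. -/
theorem isIso_of_isProper {A B S : Scheme.{u}} (o : A ⟶ B) [IsOpenImmersion o] [IsDominant o]
    (p : B ⟶ S) [IsSeparated p] [IsProper (o ≫ p)] : IsIso o := by
  haveI : IsProper o := IsProper.of_comp o p
  haveI : Epi o.base := (TopCat.epi_iff_surjective _).mpr fun y => by
    have := o.denseRange y
    rwa [o.isClosedMap.isClosed_range.closure_eq] at this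
  exact IsOpenImmersion.isIso o

/-- A blow-up pulled back along a localizing immersion. -/
theorem pullback_blowUp {U Y Y' A : Scheme.{u}} [IsNoetherian U] [IsNoetherian Y] [IsNoetherian Y']
    {k : Y ⟶ Y'} (hk : _root_.LocImm.IsLocImmersion k) {a : A ⟶ Y'} {𝓛 : Y'.IdealSheafData}
    (ha : BlowUp.IsBlowUp a 𝓛) (f : U ⟶ Y) (hd : Disjoint (𝓛.support : Set Y') (Set.range (f ≫ k))) :
    BlowUp.IsBlowUp (pullback.fst k a) (𝓛.comap k) ∧
      Disjoint ((𝓛.comap k).support : Set Y) (Set.range (fun x => f x)) ∧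
      HasNhds (pullback.snd k a) := by
  haveI : Flat k := LocHom.flat hk.1
  refine ⟨BlowUp.Basic.flat_baseChange k ha, ?_, (hasNhds hk).pullback_snd a⟩
  rw [Scheme.IdealSheafData.support_comap]
  exact Set.disjoint_left.mpr fun y hy ⟨x, hx⟩ => Set.disjoint_left.mp hd hy ⟨x, congrArg (fun t => k t) hx⟩

/-- Extension of a morphism into a proper scheme after blowing up away from a localizing immersion. -/
theorem exists_extension {S X Y Z : Scheme.{u}} [IsNoetherian S] [IsNoetherian X] [IsNoetherian Z]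
    (a : X ⟶ S) (b : Y ⟶ S) [IsSeparated a] [EssFT.EssFiniteType a] [IsProper b]
    (j : Z ⟶ X) (hj : _root_.LocImm.IsLocImmersion j) (f : Z ⟶ Y) (hjf : j ≫ a = f ≫ b) :
    ∃ (𝓘 : X.IdealSheafData) (Xt : Scheme.{u}) (c : Xt ⟶ X) (e : Z ⟶ Xt) (f' : Xt ⟶ Y),
      BlowUp.IsBlowUp c 𝓘 ∧ Disjoint (𝓘.support : Set X) (Set.range (fun x => j x)) ∧
      e ≫ c = j ∧ e ≫ f' = f ∧ c ≫ a = f' ≫ b := by
  obtain ⟨X', k, p, hX', hk, _, _, _, hkp⟩ := LocHom.exists_factor a
  have hjk := ((hasNhds hj).comp (hasNhds hk)).isLocImmersion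
  let Γ₀ : Z ⟶ pullback p b := pullback.lift (j ≫ k) f (by rw [Category.assoc, hkp, hjf])
  let t := Γ₀.imageι ≫ pullback.fst p b
  haveI : QuasiCompact Γ₀ := by
    haveI : IsNoetherian (pullback p b) := LocHom.isNoetherian_of_lft (pullback.fst p b)
    infer_instance
  haveI : IsNoetherian Γ₀.image := LocHom.isNoetherian_of_lft t
  have e₁ : Γ₀.toImage ≫ t = j ≫ k := by
    rw [Scheme.Hom.toImage_imageι_assoc]; exact pullback.lift_fst _ _ _
  have hT : _root_.LocImm.IsLocImmersion Γ₀.toImage :=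
    ((hasNhds (e₁.symm ▸ hjk : _root_.LocImm.IsLocImmersion (Γ₀.toImage ≫ t))).of_dense
      (toImage_app_injective' Γ₀)).isLocImmersion
  obtain ⟨W, kW, g₁, g₂, hkW, _, _, hg, hg₁, hg₂⟩ :=
    LocHom.exists_common_open Γ₀.toImage (j ≫ k) t (𝟙 X') hT hjk (by rw [Category.comp_id, e₁])
  obtain ⟨A, B, α, β, o, uA, 𝓛, 𝓜, hα, -, -, hβ, -, hdM, _, _, _, _, ho, huα, huβ⟩ :=
    exists_blowUp_openImmersion t (𝟙 X') g₁ g₂ hg
  rw [Category.comp_id] at ho
  haveI : IsProper (o ≫ β) := by rw [ho]; infer_instance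
  haveI := isIso_of_isProper o β
  have hd : Disjoint (𝓜.support : Set X') (Set.range (j ≫ k)) := by
    refine hdM.mono_right ?_
    rw [← hg₂]
    rintro _ ⟨z, rfl⟩
    exact ⟨kW z, rfl⟩
  obtain ⟨h1, h2, -⟩ := pullback_blowUp hk hβ j hd
  let ext : B ⟶ Y := inv o ≫ α ≫ Γ₀.imageι ≫ pullback.snd p b
  refine ⟨_, pullback k β, pullback.fst k β, pullback.lift j (kW ≫ uA ≫ o) ?_,
    pullback.snd k β ≫ ext, h1, h2, pullback.lift_fst _ _ _, ?_, ?_⟩
  · rw [Category.assoc, Category.assoc, huβ, hg₂]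
  · rw [pullback.lift_snd_assoc]
    simp only [ext, Category.assoc, IsIso.hom_inv_id_assoc]
    rw [reassoc_of% huα, reassoc_of% hg₁, Scheme.Hom.toImage_imageι_assoc]
    exact pullback.lift_snd _ _ _
  · simp only [ext, Category.assoc]
    rw [← pullback.condition]
    have : α ≫ Γ₀.imageι ≫ pullback.fst p b = o ≫ β := by rw [ho]
    rw [reassoc_of% this, IsIso.inv_hom_id_assoc, ← pullback.condition_assoc, hkp]

end Groth.Agent.LocBlow
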